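import Mathlib

set_option autoImplicit false

/-! # S4139 (Cossey–Hawkes–Mann): shared definitions (helper6)

`csz x` is the size of the conjugacy class of `x`; `nA p G` is the number of elements of `G` whose
class size is a power of `p`. -/

namespace Cfsg.Agent.S4139L

universe u

/-- The size of the conjugacy class of `x`. -/
noncomputable def csz {G : Type u} [Group G] (x : G) : ℕ :=
  Nat.card (ConjClasses.mk x).carrier

/-- The number of elements of `G` whose conjugacy class has `p`-power size. -/
noncomputable def nA (p : ℕ) (G : Type u) [Group G] : ℕ :=
  Nat.card {x : G // ∃ k : ℕ, csz x = p ^ k}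

end Cfsg.Agent.S4139L
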