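import Mathlib
import Cfsg.Agent.Lib.S4139.Defs

set_option autoImplicit false

namespace Cfsg.Agent.S4139L

universe u

open commutatorElement

/-! # S4139 piece N1 : in a finite nilpotent group, `p ∣ |H|` implies `p ∣ |Z(H)|` (lead) -/

/-- a nontrivial normal subgroup of a nilpotent group meets the centre nontrivially -/
theorem N1_inf_center_ne_bot {H : Type u} [Group H] (hH : Group.IsNilpotent H) (N : Subgroup H)
    [hNn : N.Normal] (hN : N ≠ ⊥) : N ⊓ Subgroup.center H ≠ ⊥ := by
  classical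
  obtain ⟨n, hn⟩ := hH.nilpotent'
  have hex : ∃ i, N ⊓ Subgroup.upperCentralSeries H i ≠ ⊥ :=
    ⟨n, by rw [hn, inf_top_eq]; exact hN⟩
  have hi : N ⊓ Subgroup.upperCentralSeries H (Nat.find hex) ≠ ⊥ := Nat.find_spec hex
  have hi0 : Nat.find hex ≠ 0 := by
    intro h0
    apply hi
    rw [h0, Subgroup.upperCentralSeries_zero, inf_bot_eq]
  obtain ⟨j, hj⟩ := Nat.exists_eq_succ_of_ne_zero hi0
  have hjbot : N ⊓ Subgroup.upperCentralSeries H j = ⊥ := by
    by_contra hc
    have := Nat.find_min' hex hc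
    omega
  intro hbot
  apply hi
  rw [eq_bot_iff]
  intro x hx
  obtain ⟨hxN, hxZ⟩ := Subgroup.mem_inf.1 hx
  rw [hj, Nat.succ_eq_add_one, Subgroup.mem_upperCentralSeries_succ_iff] at hxZ
  have hxc : x ∈ Subgroup.center H := by
    rw [Subgroup.mem_center_iff]
    intro y
    have h1 : ⁅x, y⁆ ∈ N ⊓ Subgroup.upperCentralSeries H j := by
      refine Subgroup.mem_inf.2 ⟨?_, hxZ y⟩
      have h2 : y * x⁻¹ * y⁻¹ ∈ N := hNn.conj_mem _ (N.inv_mem hxN) y
      have h3 := N.mul_mem hxN h2
      have h4 : ⁅x, y⁆ = x * (y * x⁻¹ * y⁻¹) := by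
        rw [commutatorElement_def]; group
      rw [h4]
      exact h3
    rw [hjbot, Subgroup.mem_bot, commutatorElement_def] at h1
    have h5 : x * y = y * x := by
      have := congrArg (fun t => t * y * x) h1
      simpa [mul_assoc] using this
    exact h5.symm
  have hmem : x ∈ N ⊓ Subgroup.center H := Subgroup.mem_inf.2 ⟨hxN, hxc⟩
  rw [hbot] at hmem
  exact hmem

theorem dvd_card_center_of_nilpotent {H : Type u} [Group H] [Finite H] (hH : Group.IsNilpotent H)
    (p : ℕ) [Fact p.Prime] (hp : p ∣ Nat.card H) : p ∣ Nat.card (Subgroup.center H) := by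
  haveI := hH
  let P : Sylow p H := default
  haveI hPn : (P : Subgroup H).Normal := inferInstance
  have hPne : (P : Subgroup H) ≠ ⊥ := by
    intro hbot
    have hcard : Nat.card (P : Subgroup H) = 1 := by rw [hbot]; simp
    have hdvd : p ∣ Nat.card (P : Subgroup H) := by
      rw [Sylow.card_eq_multiplicity]
      have hpos : 0 < (Nat.card H).factorization p :=
        (Fact.out : p.Prime).factorization_pos_of_dvd Nat.card_pos.ne' hp
      exact dvd_pow_self p hpos.ne'
    rw [hcard] at hdvd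
    exact (Fact.out : p.Prime).one_lt.ne' (Nat.dvd_one.1 hdvd)
  have hne := N1_inf_center_ne_bot hH (P : Subgroup H) hPne
  -- `P ⊓ center` is a nontrivial `p`-group
  have hpg : IsPGroup p ↥((P : Subgroup H) ⊓ Subgroup.center H) :=
    P.2.to_le inf_le_left
  obtain ⟨k, hk⟩ := IsPGroup.iff_card.1 hpg
  have hk0 : k ≠ 0 := by
    intro h0
    rw [h0, pow_zero] at hk
    exact hne (Subgroup.card_eq_one.1 hk)
  have h1 : p ∣ Nat.card ↥((P : Subgroup H) ⊓ Subgroup.center H) := by
    rw [hk]; exact dvd_pow_self p hk0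
  exact h1.trans (Subgroup.card_dvd_of_le inf_le_right)

end Cfsg.Agent.S4139L
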