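import Mathlib
import Cfsg.Agent.Lib.S4139.Defs

set_option autoImplicit false

/-! # S4139 piece A, part 0 (helper7): the induction behind `sylow_normal_of_dvd`, with the three
ingredients (pieces F, Q, C) taken as hypotheses, so that this file only depends on `Defs`. -/

namespace Cfsg.Agent.S4139L

universe u

/-- aux: the induction behind `sylow_normal_of_dvd`; `hF`, `hQ`, `hC` are the statements of the
pieces F (`nA_modEq_center`), Q (`nA_quotient`) and C (`exists_central_of_dvd_center`). -/
theorem A_ind_of (p : ℕ) [Fact p.Prime]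
    (hF : ∀ (G : Type u) [Group G] [Finite G], nA p G ≡ Nat.card (Subgroup.center G) [MOD p])
    (hQ : ∀ (G : Type u) [Group G] [Finite G] (N : Subgroup G) [N.Normal],
      N ≤ Subgroup.center G → Nat.card N = p → nA p G = p * nA p (G ⧸ N))
    (hC : ∀ (G : Type u) [Group G] [Finite G], p ∣ Nat.card (Subgroup.center G) →
      ∃ (N : Subgroup G) (_ : N.Normal), N ≤ Subgroup.center G ∧ Nat.card N = p ∧
        Nat.card (G ⧸ N) * p = Nat.card G ∧
        (Nat.card (G ⧸ N)).factorization p + 1 = (Nat.card G).factorization p) :
    ∀ n : ℕ, ∀ (G : Type u) [Group G] [Finite G],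
    Nat.card G = n → p ^ (Nat.card G).factorization p ∣ nA p G → ∀ P : Sylow p G,
    (P : Subgroup G).Normal := by
  intro n
  induction n using Nat.strong_induction_on with
  | _ n ih =>
    intro G _ _ hn h P
    have hp : p.Prime := Fact.out
    rcases Nat.eq_zero_or_pos ((Nat.card G).factorization p) with h0 | hpos
    · -- the Sylow subgroup is trivial
      have hcard : Nat.card (P : Subgroup G) = 1 := by
        rw [P.card_eq_multiplicity, h0, pow_zero]
      have : (P : Subgroup G) = ⊥ := Subgroup.card_eq_one.mp hcard
      rw [this]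
      infer_instance
    · -- `p ∣ |Z(G)|`
      have hpdvd : p ∣ nA p G :=
        (dvd_pow_self p hpos.ne').trans h
      have hZ : p ∣ Nat.card (Subgroup.center G) :=
        (Nat.ModEq.dvd_iff (hF G) (dvd_refl p)).mp hpdvd
      obtain ⟨N, hNn, hNZ, hNcard, hmul, hfac⟩ := hC G hZ
      haveI := hNn
      have hq := hQ G N hNZ hNcard
      -- divisibility in the quotient
      have hdq : p ^ (Nat.card (G ⧸ N)).factorization p ∣ nA p (G ⧸ N) := by
        rw [← hfac, pow_succ, hq, mul_comm] at h
        exact Nat.dvd_of_mul_dvd_mul_left hp.pos h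
      have hlt : Nat.card (G ⧸ N) < n := by
        rw [← hn, ← hmul]
        have hpos' : 0 < Nat.card (G ⧸ N) := Nat.card_pos
        have := hp.two_le
        nlinarith
      have hsurj : Function.Surjective (QuotientGroup.mk' N) := QuotientGroup.mk'_surjective N
      have hnorm : ((P.mapSurjective hsurj : Sylow p (G ⧸ N)) : Subgroup (G ⧸ N)).Normal :=
        ih _ hlt (G ⧸ N) rfl hdq _
      rw [Sylow.coe_mapSurjective] at hnorm
      have hNp : IsPGroup p N := IsPGroup.of_card (n := 1) (by rw [hNcard, pow_one])
      have hPN : (P : Subgroup G) ⊔ N = P :=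
        P.is_maximal' (IsPGroup.to_sup_of_normal_right P.2 hNp) le_sup_left
      have hcomap : ((P : Subgroup G).map (QuotientGroup.mk' N)).comap (QuotientGroup.mk' N) = P := by
        rw [Subgroup.comap_map_eq, QuotientGroup.ker_mk', hPN]
      rw [← hcomap]
      exact Subgroup.Normal.comap hnorm _

end Cfsg.Agent.S4139L
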