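import Mathlib
import Cfsg.Agent.Lib.S4139.Defs

set_option autoImplicit false

namespace Cfsg.Agent.S4139L

universe u

/-- Piece C of S4139: a central subgroup of order `p` and the valuation of the quotient. -/
theorem exists_central_of_dvd_center {G : Type u} [Group G] [Finite G] (p : ℕ) [Fact p.Prime]
    (h : p ∣ Nat.card (Subgroup.center G)) :
    ∃ (N : Subgroup G) (_ : N.Normal), N ≤ Subgroup.center G ∧ Nat.card N = p ∧
      Nat.card (G ⧸ N) * p = Nat.card G ∧
      (Nat.card (G ⧸ N)).factorization p + 1 = (Nat.card G).factorization p := by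
  have hp : p.Prime := Fact.out
  obtain ⟨z, hz⟩ := exists_prime_orderOf_dvd_card' p h
  have hzc : (z : G) ∈ Subgroup.center G := z.2
  have hord : orderOf (z : G) = p := by rw [Subgroup.orderOf_coe]; exact hz
  let N : Subgroup G := Subgroup.zpowers (z : G)
  have hNle : N ≤ Subgroup.center G := by
    rw [Subgroup.zpowers_le]; exact hzc
  have hNn : N.Normal := by
    refine ⟨fun n hn g => ?_⟩
    have : g * n * g⁻¹ = n := by
      have hc := Subgroup.mem_center_iff.mp (hNle hn) g
      rw [hc, mul_inv_cancel_right]
    rw [this]; exact hn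
  have hNcard : Nat.card N = p := by
    rw [Nat.card_zpowers, hord]
  refine ⟨N, hNn, hNle, hNcard, ?_, ?_⟩
  · have := Subgroup.card_eq_card_quotient_mul_card_subgroup N
    rw [hNcard] at this
    exact this.symm
  · have h1 := Subgroup.card_eq_card_quotient_mul_card_subgroup N
    rw [hNcard] at h1
    have hq : Nat.card (G ⧸ N) ≠ 0 := Nat.card_pos.ne'
    rw [h1, Nat.factorization_mul hq hp.ne_zero]
    simp [hp.factorization]

end Cfsg.Agent.S4139L
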