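import Mathlib
import Cfsg.Agent.Lib.S4139.Defs

/-!
# S4139 piece F (helper9): `nA p G ≡ |Z(G)| (mod p)`

A Sylow `p`-subgroup of `ConjAct G` acts on the set of elements of `p`-power class size;
its fixed points there are exactly the central elements.
-/

set_option autoImplicit false

namespace Cfsg.Agent.S4139L

universe u

theorem F_csz_eq_index {G : Type u} [Group G] (x : G) :
    csz x = (MulAction.stabilizer (ConjAct G) x).index := by
  unfold csz
  rw [← ConjAct.orbit_eq_carrier_conjClasses, MulAction.index_stabilizer, Nat.card_coe_set_eq]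

theorem F_csz_smul {G : Type u} [Group G] (g : ConjAct G) (x : G) : csz (g • x) = csz x := by
  unfold csz
  have : ConjClasses.mk (g • x) = ConjClasses.mk x := by
    rw [ConjClasses.mk_eq_mk_iff_isConj, ConjAct.smul_def]
    exact (isConj_iff.mpr ⟨ConjAct.ofConjAct g, rfl⟩).symm
  rw [this]

theorem F_mem_center_iff {G : Type u} [Group G] (x : G) :
    x ∈ Subgroup.center G ↔ ∀ g : ConjAct G, g • x = x := by
  rw [Subgroup.mem_center_iff]
  constructor
  · intro h g
    rw [ConjAct.smul_def, h (ConjAct.ofConjAct g), mul_inv_cancel_right]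
  · intro h g
    have := h (ConjAct.toConjAct g)
    rw [ConjAct.smul_def, ConjAct.ofConjAct_toConjAct] at this
    calc g * x = g * x * g⁻¹ * g := by group
      _ = x * g := by rw [this]

theorem F_csz_of_mem_center {G : Type u} [Group G] (x : G) (hx : x ∈ Subgroup.center G) :
    csz x = 1 := by
  rw [F_csz_eq_index, Subgroup.index_eq_one, Subgroup.eq_top_iff']
  intro g
  exact MulAction.mem_stabilizer_iff.mpr ((F_mem_center_iff x).mp hx g)

/-- the set of elements of `p`-power class size, as a sub-action of a subgroup of `ConjAct G` -/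
def F_sub (p : ℕ) (G : Type u) [Group G] (P : Subgroup (ConjAct G)) : SubMulAction ↥P G where
  carrier := {x | ∃ k : ℕ, csz x = p ^ k}
  smul_mem' := by
    rintro g x ⟨k, hk⟩
    exact ⟨k, by rw [Subgroup.smul_def, F_csz_smul]; exact hk⟩

theorem F_mem_center_of_fixed {G : Type u} [Group G] [Finite G] (p : ℕ) [Fact p.Prime]
    (P : Sylow p (ConjAct G)) (x : G) (hx : ∃ k : ℕ, csz x = p ^ k)
    (hfix : ∀ g : ↥(P : Subgroup (ConjAct G)), (g : ConjAct G) • x = x) :
    x ∈ Subgroup.center G := by
  obtain ⟨k, hk⟩ := hx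
  have : Finite (ConjAct G) := inferInstanceAs (Finite G)
  have hle : (P : Subgroup (ConjAct G)) ≤ MulAction.stabilizer (ConjAct G) x := by
    intro g hg
    exact MulAction.mem_stabilizer_iff.mpr (hfix ⟨g, hg⟩)
  have hdvd : (MulAction.stabilizer (ConjAct G) x).index ∣ (P : Subgroup (ConjAct G)).index :=
    Subgroup.index_dvd_of_le hle
  rw [← F_csz_eq_index, hk] at hdvd
  have hnd : ¬ p ∣ (P : Subgroup (ConjAct G)).index := P.not_dvd_index
  have hk0 : k = 0 := by
    by_contra hk0
    exact hnd (dvd_trans (dvd_pow_self p hk0) hdvd)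
  rw [hk0, pow_zero] at hk
  rw [F_csz_eq_index, Subgroup.index_eq_one] at hk
  rw [F_mem_center_iff]
  intro g
  have : g ∈ MulAction.stabilizer (ConjAct G) x := by rw [hk]; exact Subgroup.mem_top g
  exact MulAction.mem_stabilizer_iff.mp this

theorem nA_modEq_center {G : Type u} [Group G] [Finite G] (p : ℕ) [Fact p.Prime] :
    nA p G ≡ Nat.card (Subgroup.center G) [MOD p] := by
  have : Finite (ConjAct G) := inferInstanceAs (Finite G)
  obtain ⟨P⟩ : Nonempty (Sylow p (ConjAct G)) := inferInstance
  have h1 := P.2.card_modEq_card_fixedPoints (↥(F_sub p G (P : Subgroup (ConjAct G))))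
  have h2 : Nat.card ↥(F_sub p G (P : Subgroup (ConjAct G))) = nA p G := rfl
  have h3 : Nat.card (MulAction.fixedPoints ↥(P : Subgroup (ConjAct G))
      ↥(F_sub p G (P : Subgroup (ConjAct G)))) = Nat.card (Subgroup.center G) := by
    apply Nat.card_congr
    refine
      { toFun := fun a => ⟨(a.1 : G), F_mem_center_of_fixed p P (a.1 : G) a.1.2 (fun g => ?_)⟩
        invFun := fun z => ⟨⟨(z : G), ⟨0, by rw [pow_zero]; exact F_csz_of_mem_center _ z.2⟩⟩, ?_⟩
        left_inv := fun a => rfl
        right_inv := fun z => rfl }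
    · have := a.2 g
      exact congrArg Subtype.val this
    · intro g
      apply Subtype.ext
      exact (F_mem_center_iff (z : G)).mp z.2 (g : ConjAct G)
  rw [h2, h3] at h1
  exact h1

end Cfsg.Agent.S4139L
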