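import Mathlib
import Cfsg.Agent.Lib.S4139.Defs

set_option autoImplicit false

/-! # S4139, piece Q (helper8): dividing by a central subgroup of order `p`

For `N` central of order `p` and `x : G`, `csz x = csz (x mod N)` or `csz x = p * csz (x mod N)`;
hence the set of elements with `p`-power class size is the full preimage of the corresponding
set of `G ⧸ N`, and `nA p G = p * nA p (G ⧸ N)`. -/

namespace Cfsg.Agent.S4139L

universe u

/-- Class size = index of the centralizer (inline copy of piece I, Mathlib only). -/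
theorem Q_csz_eq_index {G : Type u} [Group G] [Finite G] (x : G) :
    csz x = (Subgroup.centralizer ({x} : Set G)).index := by
  unfold csz
  have h1 : (Subgroup.centralizer ({x} : Set G)).index
      = (MulAction.stabilizer (ConjAct G) x).index := by
    rw [Subgroup.centralizer_eq_comap_stabilizer]
    exact Subgroup.index_comap_of_surjective _ (ConjAct.toConjAct (G := G)).surjective
  rw [h1, MulAction.index_stabilizer, ConjAct.orbit_eq_carrier_conjClasses]
  exact Nat.card_coe_set_eq _

/-- The subgroup `C* = {g : [g, x] ∈ N}`, as the preimage of the centralizer of `x mod N`. -/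
def Q_star {G : Type u} [Group G] (N : Subgroup G) [N.Normal] (x : G) : Subgroup G :=
  (Subgroup.centralizer ({QuotientGroup.mk' N x} : Set (G ⧸ N))).comap (QuotientGroup.mk' N)

theorem Q_mem_star {G : Type u} [Group G] (N : Subgroup G) [N.Normal] (x g : G) :
    g ∈ Q_star N x ↔ g * x * g⁻¹ * x⁻¹ ∈ N := by
  unfold Q_star
  rw [Subgroup.mem_comap, Subgroup.mem_centralizer_iff]
  constructor
  · intro h
    have h1 := h _ (Set.mem_singleton _)
    rw [← QuotientGroup.eq_one_iff]
    have h2 : ((g * x * g⁻¹ * x⁻¹ : G) : G ⧸ N)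
        = QuotientGroup.mk' N g * QuotientGroup.mk' N x * (QuotientGroup.mk' N g)⁻¹ *
          (QuotientGroup.mk' N x)⁻¹ := by
      simp
    rw [h2, ← h1]
    group
  · intro h y hy
    rw [Set.mem_singleton_iff] at hy
    subst hy
    rw [← QuotientGroup.eq_one_iff] at h
    have h2 : ((g * x * g⁻¹ * x⁻¹ : G) : G ⧸ N)
        = QuotientGroup.mk' N g * QuotientGroup.mk' N x * (QuotientGroup.mk' N g)⁻¹ *
          (QuotientGroup.mk' N x)⁻¹ := by
      simp
    rw [h2] at h
    have h3 : QuotientGroup.mk' N g * QuotientGroup.mk' N x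
        = QuotientGroup.mk' N x * QuotientGroup.mk' N g := by
      have := congrArg (fun z => z * QuotientGroup.mk' N x * QuotientGroup.mk' N g) h
      simpa [mul_assoc] using this
    exact h3.symm

theorem Q_centralizer_le_star {G : Type u} [Group G] (N : Subgroup G) [N.Normal] (x : G) :
    Subgroup.centralizer ({x} : Set G) ≤ Q_star N x := by
  intro g hg
  rw [Q_mem_star]
  rw [Subgroup.mem_centralizer_iff] at hg
  have h1 : x * g = g * x := hg x (Set.mem_singleton _)
  have : g * x * g⁻¹ * x⁻¹ = 1 := by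
    rw [← h1]; group
  rw [this]; exact N.one_mem

/-- The commutator homomorphism `C* → N`, `g ↦ [g, x]`. -/
noncomputable def Q_hom {G : Type u} [Group G] (N : Subgroup G) [N.Normal]
    (hN : N ≤ Subgroup.center G) (x : G) : ↥(Q_star N x) →* ↥N where
  toFun g := ⟨(g : G) * x * (g : G)⁻¹ * x⁻¹, (Q_mem_star N x g).mp g.2⟩
  map_one' := by
    apply Subtype.ext
    simp
  map_mul' := by
    intro g h
    apply Subtype.ext
    have hn : (h : G) * x * (h : G)⁻¹ * x⁻¹ ∈ Subgroup.center G :=
      hN ((Q_mem_star N x h).mp h.2)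
    have hc := Subgroup.mem_center_iff.mp hn
    show ((g : G) * (h : G)) * x * ((g : G) * (h : G))⁻¹ * x⁻¹
      = ((g : G) * x * (g : G)⁻¹ * x⁻¹) * ((h : G) * x * (h : G)⁻¹ * x⁻¹)
    have e1 : ((g : G) * (h : G)) * x * ((g : G) * (h : G))⁻¹ * x⁻¹
        = (g : G) * ((h : G) * x * (h : G)⁻¹ * x⁻¹) * (x * (g : G)⁻¹ * x⁻¹) := by group
    rw [e1, hc (g : G)]
    have e2 : (h : G) * x * (h : G)⁻¹ * x⁻¹ * (g : G) * (x * (g : G)⁻¹ * x⁻¹)
        = ((h : G) * x * (h : G)⁻¹ * x⁻¹) * ((g : G) * x * (g : G)⁻¹ * x⁻¹) := by group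
    rw [e2]
    exact (hc _).symm

theorem Q_ker {G : Type u} [Group G] (N : Subgroup G) [N.Normal]
    (hN : N ≤ Subgroup.center G) (x : G) :
    (Q_hom N hN x).ker = (Subgroup.centralizer ({x} : Set G)).subgroupOf (Q_star N x) := by
  ext g
  rw [MonoidHom.mem_ker, Subgroup.mem_subgroupOf, Subgroup.mem_centralizer_iff]
  constructor
  · intro h y hy
    rw [Set.mem_singleton_iff] at hy
    subst hy
    have h1 : (g : G) * y * (g : G)⁻¹ * y⁻¹ = 1 := congrArg Subtype.val h
    have h2 := congrArg (fun z => z * y * (g : G)) h1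
    simp only [one_mul] at h2
    rw [← h2]; group
  · intro h
    apply Subtype.ext
    have h1 : x * (g : G) = (g : G) * x := h x (Set.mem_singleton _)
    show (g : G) * x * (g : G)⁻¹ * x⁻¹ = 1
    rw [← h1]; group

theorem Q_relIndex_dvd {G : Type u} [Group G] [Finite G] (p : ℕ) (N : Subgroup G) [N.Normal]
    (hN : N ≤ Subgroup.center G) (hcard : Nat.card N = p) (x : G) :
    (Subgroup.centralizer ({x} : Set G)).relIndex (Q_star N x) ∣ p := by
  unfold Subgroup.relIndex
  rw [← Q_ker N hN x, Subgroup.index_ker, ← hcard]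
  exact Subgroup.card_subgroup_dvd_card _

theorem csz_quotient {G : Type u} [Group G] [Finite G] (p : ℕ) [Fact p.Prime] (N : Subgroup G)
    [N.Normal] (hN : N ≤ Subgroup.center G) (hcard : Nat.card N = p) (x : G) :
    csz x = csz (QuotientGroup.mk' N x) ∨ csz x = p * csz (QuotientGroup.mk' N x) := by
  have hp : p.Prime := Fact.out
  rw [Q_csz_eq_index, Q_csz_eq_index]
  have h1 : (Q_star N x).index
      = (Subgroup.centralizer ({QuotientGroup.mk' N x} : Set (G ⧸ N))).index :=
    Subgroup.index_comap_of_surjective _ (QuotientGroup.mk'_surjective N)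
  have h2 := Subgroup.relIndex_mul_index (Q_centralizer_le_star N x)
  have h3 := Q_relIndex_dvd p N hN hcard x
  rw [h1] at h2
  rcases (Nat.dvd_prime hp).mp h3 with h | h
  · left; rw [← h2, h, one_mul]
  · right; rw [← h2, h]

theorem Q_mem_iff {G : Type u} [Group G] [Finite G] (p : ℕ) [Fact p.Prime] (N : Subgroup G)
    [N.Normal] (hN : N ≤ Subgroup.center G) (hcard : Nat.card N = p) (x : G) :
    (∃ k : ℕ, csz x = p ^ k) ↔ ∃ k : ℕ, csz (QuotientGroup.mk' N x) = p ^ k := by
  have hp : p.Prime := Fact.out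
  constructor
  · rintro ⟨k, hk⟩
    rcases csz_quotient p N hN hcard x with h | h
    · exact ⟨k, by rw [← h, hk]⟩
    · rw [hk] at h
      cases k with
      | zero =>
        exfalso
        rw [pow_zero] at h
        have := Nat.eq_one_of_mul_eq_one_right h.symm
        exact hp.one_lt.ne' this
      | succ k =>
        refine ⟨k, ?_⟩
        rw [pow_succ, mul_comm] at h
        exact (Nat.eq_of_mul_eq_mul_left hp.pos h).symm
  · rintro ⟨k, hk⟩
    rcases csz_quotient p N hN hcard x with h | h
    · exact ⟨k, by rw [h, hk]⟩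
    · exact ⟨k + 1, by rw [h, hk, pow_succ, mul_comm]⟩

theorem nA_quotient {G : Type u} [Group G] [Finite G] (p : ℕ) [Fact p.Prime] (N : Subgroup G)
    [N.Normal] (hN : N ≤ Subgroup.center G) (hcard : Nat.card N = p) :
    nA p G = p * nA p (G ⧸ N) := by
  unfold nA
  have e1 : {x : G // ∃ k : ℕ, csz x = p ^ k}
      ≃ ↥((QuotientGroup.mk : G → G ⧸ N) ⁻¹' {y : G ⧸ N | ∃ k : ℕ, csz y = p ^ k}) :=
    Equiv.subtypeEquivRight (fun x => Q_mem_iff p N hN hcard x)
  rw [Nat.card_congr e1,
    Nat.card_congr (QuotientGroup.preimageMkEquivSubgroupProdSet N _), Nat.card_prod, hcard]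
  rfl

end Cfsg.Agent.S4139L
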