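import Mathlib
import Cfsg.Agent.Lib.S4139.Defs
import Cfsg.Agent.Lib.S4139.A0
import Cfsg.Agent.Lib.S4139.F
import Cfsg.Agent.Lib.S4139.Q
import Cfsg.Agent.Lib.S4139.C

set_option autoImplicit false

/-! # S4139 piece A (helper7): if `|G|_p` divides `nA p G` then the Sylow `p`-subgroups are normal -/

namespace Cfsg.Agent.S4139L

universe u

theorem sylow_normal_of_dvd {G : Type u} [Group G] [Finite G] (p : ℕ) [Fact p.Prime]
    (h : p ^ (Nat.card G).factorization p ∣ nA p G) (P : Sylow p G) :
    (P : Subgroup G).Normal :=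
  A_ind_of p (fun G _ _ => nA_modEq_center (G := G) p)
    (fun _ _ _ N _ hN hc => nA_quotient p N hN hc)
    (fun _ _ _ hZ => exists_central_of_dvd_center p hZ) (Nat.card G) G rfl h P

end Cfsg.Agent.S4139L
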