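import Mathlib
import Cfsg.Agent.Lib.S4139.Defs

set_option autoImplicit false

namespace Cfsg.Agent.S4139L

universe u

/-- Piece I of S4139: the class size is the index of the centralizer. -/
theorem csz_eq_index {G : Type u} [Group G] [Finite G] (x : G) :
    csz x = (Subgroup.centralizer ({x} : Set G)).index := by
  classical
  unfold csz
  rw [← ConjAct.orbit_eq_carrier_conjClasses x, Nat.card_coe_set_eq,
    ← MulAction.index_stabilizer (ConjAct G) x, Subgroup.centralizer_eq_comap_stabilizer]
  exact (Subgroup.index_comap_of_surjective _ (ConjAct.toConjAct (G := G)).surjective).symm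

end Cfsg.Agent.S4139L
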