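import Mathlib
import Cfsg.Agent.Lib.S4139.Defs
import Cfsg.Agent.Lib.S4139.C
import Cfsg.Agent.Lib.S4139.N1
import Cfsg.Agent.Lib.S4139.Q

set_option autoImplicit false

namespace Cfsg.Agent.S4139L

universe u

theorem N_aux (p : ℕ) [Fact p.Prime] (n : ℕ) :
    ∀ (H : Type u) [Group H] [Finite H], Nat.card H = n → Group.IsNilpotent H →
      p ^ (Nat.card H).factorization p ∣ nA p H := by
  induction n using Nat.strong_induction_on with
  | _ n ih =>
  intro H _ _ hn hH
  have hp : p.Prime := Fact.out
  by_cases h0 : (Nat.card H).factorization p = 0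
  · rw [h0, pow_zero]; exact one_dvd _
  · have hpos : Nat.card H ≠ 0 := Nat.card_pos.ne'
    have hpd : p ∣ Nat.card H := by
      by_contra hnd
      exact h0 (Nat.factorization_eq_zero_of_not_dvd hnd)
    have hZ := dvd_card_center_of_nilpotent hH p hpd
    obtain ⟨N, hNn, hNc, hNcard, hcard, hfac⟩ := exists_central_of_dvd_center p hZ
    have hQ := nA_quotient p N hNc hNcard
    have hlt : Nat.card (H ⧸ N) < n := by
      have h1 : 0 < Nat.card (H ⧸ N) := Nat.card_pos
      have h2 : 2 ≤ p := hp.two_le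
      rw [← hn, ← hcard]
      nlinarith
    have hnil : Group.IsNilpotent (H ⧸ N) :=
      Group.nilpotent_of_surjective (QuotientGroup.mk' N) (QuotientGroup.mk'_surjective N)
    have hih := ih _ hlt (H ⧸ N) rfl hnil
    rw [hQ, ← hfac, pow_succ, mul_comm]
    exact Nat.mul_dvd_mul_left p hih

theorem dvd_nA_of_nilpotent {H : Type u} [Group H] [Finite H] (hH : Group.IsNilpotent H)
    (p : ℕ) [Fact p.Prime] : p ^ (Nat.card H).factorization p ∣ nA p H :=
  N_aux p _ H rfl hH

end Cfsg.Agent.S4139L
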