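import Mathlib
import Cfsg.Agent.Lib.S4139.Defs

set_option autoImplicit false

namespace Cfsg.Agent.S4139L

universe u v

/-- elements with class size `k` are fibred over the classes of size `k` -/
noncomputable def T_fiberEquiv {G : Type u} [Group G] (k : ℕ) :
    {x : G // csz x = k} ≃ Σ C : {C : ConjClasses G // Nat.card C.carrier = k}, C.1.carrier where
  toFun x := ⟨⟨ConjClasses.mk x.1, x.2⟩, ⟨x.1, ConjClasses.mem_carrier_mk⟩⟩
  invFun y := ⟨y.2.1, by
    have h1 : ConjClasses.mk y.2.1 = y.1.1 := ConjClasses.mem_carrier_iff_mk_eq.1 y.2.2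
    unfold csz
    rw [h1]
    exact y.1.2⟩
  left_inv x := rfl
  right_inv y := by
    obtain ⟨⟨C, hC⟩, ⟨x, hx⟩⟩ := y
    have h1 : ConjClasses.mk x = C := ConjClasses.mem_carrier_iff_mk_eq.1 hx
    subst h1
    rfl

theorem T_card_fiber {G : Type u} [Group G] [Finite G] (k : ℕ) :
    Nat.card {x : G // csz x = k} =
      Nat.card {C : ConjClasses G // Nat.card C.carrier = k} * k := by
  classical
  have := Fintype.ofFinite {C : ConjClasses G // Nat.card C.carrier = k}
  rw [Nat.card_congr (T_fiberEquiv k), Nat.card_sigma]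
  rw [Finset.sum_congr rfl (fun C _ => C.2)]
  rw [Finset.sum_const, Finset.card_univ, smul_eq_mul, Nat.card_eq_fintype_card]

/-- elements whose class size satisfies `P`, fibred over the class sizes -/
noncomputable def T_sigmaEquiv {G : Type u} [Group G] (P : ℕ → Prop) :
    {x : G // P (csz x)} ≃ Σ k : {k : ℕ // P k}, {x : G // csz x = k.1} where
  toFun x := ⟨⟨csz x.1, x.2⟩, ⟨x.1, rfl⟩⟩
  invFun y := ⟨y.2.1, by rw [y.2.2]; exact y.1.2⟩
  left_inv x := rfl
  right_inv y := by
    obtain ⟨⟨k, hk⟩, ⟨x, hx⟩⟩ := y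
    change csz x = k at hx
    subst hx
    rfl

theorem card_eq_of_classes {G : Type u} {H : Type v} [Group G] [Finite G] [Group H] [Finite H]
    (h : ∀ k : ℕ, Nat.card {C : ConjClasses G // Nat.card C.carrier = k} =
      Nat.card {C : ConjClasses H // Nat.card C.carrier = k})
    (P : ℕ → Prop) :
    Nat.card {x : G // P (csz x)} = Nat.card {x : H // P (csz x)} := by
  have hk : ∀ k : ℕ, Nonempty ({x : G // csz x = k} ≃ {x : H // csz x = k}) := by
    intro k
    apply Finite.card_eq.1
    rw [T_card_fiber, T_card_fiber, h k]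
  exact Nat.card_congr ((T_sigmaEquiv P).trans
    ((Equiv.sigmaCongrRight fun (k : {k : ℕ // P k}) => Classical.choice (hk k.1)).trans (T_sigmaEquiv P).symm))

end Cfsg.Agent.S4139L
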