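import Mathlib
import Cfsg.Agent.Lib.S4139.Defs
import Cfsg.Agent.Lib.S4139.T
import Cfsg.Agent.Lib.S4139.A
import Cfsg.Agent.Lib.S4139.N

set_option autoImplicit false

namespace Cfsg.Agent.S4139L

universe u v

/-- Cossey–Hawkes–Mann: a finite group with the same multiset of class sizes as a nilpotent group is
nilpotent. -/
theorem main {G : Type u} {H : Type v} [Group G] [Finite G] [Group H] [Finite H]
    (hH : Group.IsNilpotent H)
    (h : ∀ k : ℕ, Nat.card {C : ConjClasses G // Nat.card C.carrier = k} =
      Nat.card {C : ConjClasses H // Nat.card C.carrier = k}) :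
    Group.IsNilpotent G := by
  have hcard : Nat.card G = Nat.card H := by
    have := card_eq_of_classes h (fun _ => True)
    simpa using this
  refine (Group.isNilpotent_of_finite_tfae (G := G)).out 3 0 rfl rfl |>.mp ?_
  intro p hp P
  have := hp
  apply sylow_normal_of_dvd p _ P
  have h1 : nA p G = nA p H := card_eq_of_classes h (fun n => ∃ k : ℕ, n = p ^ k)
  rw [h1, hcard]
  exact dvd_nA_of_nilpotent hH p

end Cfsg.Agent.S4139L
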