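import Mathlib
import Cfsg.Agent.Lib.S4139.Defs

set_option autoImplicit false

namespace Cfsg.Agent.S4139L

universe u

/-- aux: if `a = b` or `a = p * b`, then `a` is a power of `p` iff `b` is. -/
theorem Q2_pow_iff (p : ℕ) (hp : p.Prime) (a b : ℕ) (h : a = b ∨ a = p * b) :
    (∃ k : ℕ, a = p ^ k) ↔ (∃ k : ℕ, b = p ^ k) := by
  rcases h with rfl | rfl
  · exact Iff.rfl
  · constructor
    · rintro ⟨k, hk⟩
      cases k with
      | zero =>
        rw [pow_zero] at hk
        have := Nat.eq_one_of_mul_eq_one_right hk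
        exact absurd this hp.one_lt.ne'
      | succ k =>
        refine ⟨k, ?_⟩
        rw [pow_succ, mul_comm (p ^ k) p] at hk
        exact Nat.eq_of_mul_eq_mul_left hp.pos hk
    · rintro ⟨k, rfl⟩
      exact ⟨k + 1, by rw [pow_succ, mul_comm]⟩

/-- Second half of piece Q: `nA_quotient` from `csz_quotient`. -/
theorem Q2_nA_of_csz {G : Type u} [Group G] [Finite G] (p : ℕ) [Fact p.Prime] (N : Subgroup G)
    [N.Normal] (hcard : Nat.card N = p)
    (hcsz : ∀ x : G, csz x = csz (QuotientGroup.mk' N x) ∨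
      csz x = p * csz (QuotientGroup.mk' N x)) :
    nA p G = p * nA p (G ⧸ N) := by
  have hp : p.Prime := Fact.out
  let S : Set (G ⧸ N) := {y | ∃ k : ℕ, csz y = p ^ k}
  have hpre : {x : G | ∃ k : ℕ, csz x = p ^ k} = (QuotientGroup.mk : G → G ⧸ N) ⁻¹' S := by
    ext x
    simp only [Set.mem_ofPred_eq, Set.mem_preimage, S]
    exact Q2_pow_iff p hp _ _ (hcsz x)
  have h1 : nA p G = Nat.card ((QuotientGroup.mk : G → G ⧸ N) ⁻¹' S) := by
    unfold nA
    rw [← hpre]
    rfl
  have h2 : nA p (G ⧸ N) = Nat.card S := rfl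
  rw [h1, h2, QuotientGroup.card_preimage_mk, hcard]

end Cfsg.Agent.S4139L
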